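import Mathlib

set_option autoImplicit false
universe u v w
open scoped BigOperators

namespace Groth.Agent.Lib.Helper5.DPowA

variable (R : Type u) [CommRing R] (N : ℕ)
    (P : Type v) [CommRing P] [Algebra R P] (x : Fin N → ℕ → P)
    (hx0 : ∀ i, x i 0 = 1)
    (hxmul : ∀ i n m, x i n * x i m = ((n + m).choose n : P) * x i (n + m))
    (b : Module.Basis (Fin N →₀ ℕ) R P) (hb : ∀ e : Fin N →₀ ℕ, b e = e.prod (fun i k => x i k))
    (S : Type w) [CommRing S] [Algebra R S] (J : Ideal S) (δ : DividedPowers J)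
    (s : Fin N → S) (hs : ∀ i, s i ∈ J)

include hx0 hb in
theorem b_eq (e : Fin N →₀ ℕ) : b e = ∏ i : Fin N, x i (e i) := by
  rw [hb, Finsupp.prod_fintype]
  intro i; exact hx0 i

/-- value on monomials -/
noncomputable def mon (e : Fin N →₀ ℕ) : S := ∏ i : Fin N, δ.dpow (e i) (s i)

/-- the linear map -/
noncomputable def φl : P →ₗ[R] S := b.constr R (mon N S J δ s)

theorem φl_b (e : Fin N →₀ ℕ) : φl R N P b S J δ s (b e) = mon N S J δ s e := by
  simp [φl]

include hx0 hxmul hb in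
theorem b_mul (e e' : Fin N →₀ ℕ) :
    b e * b e' = ((∏ i : Fin N, ((e i + e' i).choose (e i)) : ℕ) : R) • b (e + e') := by
  rw [b_eq R N P x hx0 b hb, b_eq R N P x hx0 b hb, b_eq R N P x hx0 b hb, ← Finset.prod_mul_distrib]
  simp only [hxmul, Finsupp.add_apply]
  rw [Finset.prod_mul_distrib, Algebra.smul_def]
  congr 1
  simp [Nat.cast_prod]

include hs in
theorem mon_mul (e e' : Fin N →₀ ℕ) :
    mon N S J δ s e * mon N S J δ s e' =
      ((∏ i : Fin N, ((e i + e' i).choose (e i)) : ℕ) : R) • mon N S J δ s (e + e') := by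
  unfold mon
  rw [← Finset.prod_mul_distrib]
  simp only [δ.mul_dpow (hs _), Finsupp.add_apply]
  rw [Finset.prod_mul_distrib, Algebra.smul_def]
  congr 1
  simp [Nat.cast_prod]

include hx0 hxmul hb hs in
theorem φl_mul (p q : P) : φl R N P b S J δ s (p * q) = φl R N P b S J δ s p * φl R N P b S J δ s q := by
  have h : (LinearMap.mul R P).compr₂ (φl R N P b S J δ s) =
      (LinearMap.mul R S).compl₁₂ (φl R N P b S J δ s) (φl R N P b S J δ s) := by
    apply b.ext
    intro e
    apply b.ext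
    intro e'
    simp only [LinearMap.compr₂_apply, LinearMap.mul_apply', LinearMap.compl₁₂_apply]
    rw [b_mul R N P x hx0 hxmul b hb, map_smul, φl_b, φl_b, φl_b, mon_mul R N S J δ s hs]
  exact LinearMap.congr_fun (LinearMap.congr_fun h p) q

include hx0 hb hs in
theorem φl_one : φl R N P b S J δ s 1 = 1 := by
  have : (1 : P) = b 0 := by
    rw [b_eq R N P x hx0 b hb]
    simp [hx0]
  rw [this, φl_b]
  unfold mon
  simp [δ.dpow_zero (hs _)]

/-- the algebra map -/
noncomputable def φ (h1 : φl R N P b S J δ s 1 = 1)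
    (h2 : ∀ p q : P, φl R N P b S J δ s (p * q) = φl R N P b S J δ s p * φl R N P b S J δ s q) :
    P →ₐ[R] S :=
  AlgHom.ofLinearMap (φl R N P b S J δ s) h1 h2

include hx0 hb in
theorem x_eq_b (i : Fin N) (n : ℕ) : x i n = b (Finsupp.single i n) := by
  classical
  rw [b_eq R N P x hx0 b hb, Finset.prod_eq_single i]
  · simp
  · intro j _ hj
    rw [Finsupp.single_eq_of_ne hj, hx0]
  · intro h; exact absurd (Finset.mem_univ _) h

include hs in
theorem mon_single (i : Fin N) (n : ℕ) : mon N S J δ s (Finsupp.single i n) = δ.dpow n (s i) := by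
  classical
  unfold mon
  rw [Finset.prod_eq_single i]
  · simp
  · intro j _ hj
    rw [Finsupp.single_eq_of_ne hj, δ.dpow_zero (hs _)]
  · intro h; exact absurd (Finset.mem_univ _) h

include hx0 hxmul hb hs in
theorem main
    (γ : DividedPowers (Ideal.span {y : P | ∃ (i : Fin N) (n : ℕ), 1 ≤ n ∧ y = x i n}))
    (hγ : ∀ (i : Fin N) (n : ℕ), γ.dpow n (x i 1) = x i n) :
    ∃! φ : P →ₐ[R] S, γ.IsDPMorphism δ φ.toRingHom ∧ ∀ i, φ (x i 1) = s i := by
  have hx1 : ∀ i, x i 1 ∈ Ideal.span {y : P | ∃ (i : Fin N) (n : ℕ), 1 ≤ n ∧ y = x i n} :=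
    fun i => Ideal.subset_span ⟨i, 1, le_rfl, rfl⟩
  have h1 := φl_one R N P x hx0 b hb S J δ s hs
  have h2 := φl_mul R N P x hx0 hxmul b hb S J δ s hs
  have hφx : ∀ i n, φ R N P b S J δ s h1 h2 (x i n) = δ.dpow n (s i) := by
    intro i n
    change φl R N P b S J δ s (x i n) = _
    rw [x_eq_b R N P x hx0 b hb, φl_b, mon_single N S J δ s hs]
  refine ⟨φ R N P b S J δ s h1 h2, ⟨?_, ?_⟩, ?_⟩
  · apply DividedPowers.IsDPMorphism.on_span γ δ rfl
    · rintro y ⟨i, n, hn, rfl⟩
      change φ R N P b S J δ s h1 h2 (x i n) ∈ J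
      rw [hφx]
      exact δ.dpow_mem (by omega) (hs i)
    · rintro m y ⟨i, n, hn, rfl⟩
      change φ R N P b S J δ s h1 h2 (γ.dpow m (x i n)) = δ.dpow m (φ R N P b S J δ s h1 h2 (x i n))
      rw [hφx, ← hγ i n, γ.dpow_comp (m := m) (n := n) (by omega) (hx1 i), hγ, map_mul, map_natCast, hφx,
        δ.dpow_comp (m := m) (n := n) (by omega) (hs i)]
  · intro i
    rw [hφx, δ.dpow_one (hs i)]
  · rintro ψ ⟨hψ, hψs⟩
    have hψx : ∀ i n, ψ (x i n) = δ.dpow n (s i) := by
      intro i n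
      rw [← hγ i n, ← hψs i]
      exact hψ.map_dpow (hx1 i)
    apply AlgHom.toLinearMap_injective
    apply b.ext
    intro e
    change ψ (b e) = φl R N P b S J δ s (b e)
    rw [φl_b, b_eq R N P x hx0 b hb, map_prod]
    unfold mon
    exact Finset.prod_congr rfl fun i _ => hψx i (e i)

end Groth.Agent.Lib.Helper5.DPowA
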